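import Groth.Agent.Sga7.H744.HcEq
import Groth.Agent.Sga7.H138.OpenStab
import Mathlib.FieldTheory.IsSepClosed
import Mathlib.FieldTheory.Galois.Basic
import Mathlib.FieldTheory.Normal.Closure

/-!
# Every class on `C_Ω` comes from a finite Galois level

`C ⟶ Spec K` quasi-compact and quasi-separated, `Ω` a separable closure of `K`: every class of `H^q(C_Ω, M)` is
the pullback of a class of `H^q(C_F, M)` for a finite Galois subextension `F` (`exists_class_galois`); it also
comes from every finite subextension containing a suitable one (`exists_class_ge`).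
-/

set_option autoImplicit false
universe u
open CategoryTheory CategoryTheory.Limits AlgebraicGeometry

namespace Groth.Agent.Sga7.H280.ClassGal

open Groth.Agent.Sga7.H744.CohConst Groth.Agent.Etcore.EtInst Groth.Agent.Etcore.HC
  Groth.Agent.Sga7.H754.SCDef

theorem hc_eq_HC {X Y : Scheme.{u}} (f : X ⟶ Y) (M : Type) [AddCommGroup M] (q : ℕ)
    (x : HH Y (EtCoh.const Y M) q) :
    Groth.Agent.Sga7.H744.HcFun.hc f M q x = HC M f q x := rfl

/-- `Hc` and `HC` agree. -/
theorem Hc_eq_HC {X Y : Scheme.{u}} (f : X ⟶ Y) (M : Type) [AddCommGroup M] (q : ℕ)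
    (x : HH Y (EtCoh.const Y M) q) :
    @Eq (HH X (EtCoh.const X M) q) (Hc f M q x) (HC M f q x) :=
  (Groth.Agent.Sga7.H744.HcEq.Hc_apply f M q x).trans (hc_eq_HC f M q x)

variable (K Ω : Type u) [Field K] [Field Ω] [Algebra K Ω] {C : Scheme.{u}}
  (f : C ⟶ Spec (CommRingCat.of K))

/-- Every class on `C_Ω` comes from every intermediate field containing a suitable finite one. -/
theorem exists_class_ge [Algebra.IsAlgebraic K Ω] [QuasiCompact f] [QuasiSeparated f]
    (M : Type) [AddCommGroup M] (q : ℕ) (c : EtCoh.H (SGA7.bcField Ω f) (EtCoh.const _ M) q) :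
    ∃ L : IntermediateField K Ω, FiniteDimensional K L ∧ ∀ F : IntermediateField K Ω, L ≤ F →
      ∃ c' : EtCoh.H (SGA7.bcField F f) (EtCoh.const _ M) q,
        Hc (pullback.map f (Spec.map (CommRingCat.ofHom (algebraMap K Ω))) f
          (Spec.map (CommRingCat.ofHom (algebraMap K F))) (𝟙 C)
          (Spec.map (CommRingCat.ofHom (algebraMap F Ω))) (𝟙 _) (by simp)
          (by rw [← Spec.map_comp]; rfl)) M q c' = c := by
  obtain ⟨B, hB, tB, htB, wB, y, hy⟩ := Groth.Agent.Sga7.H138.OpenStab.exists_PM_fg f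
    (𝟙 (Spec (CommRingCat.of K))) (Spec.map (CommRingCat.ofHom (algebraMap K Ω)))
    (Category.comp_id _) M q c
  obtain rfl : Spec.map (CommRingCat.ofHom (algebraMap K B)) = tB := by
    rw [← htB, Category.comp_id]
  obtain ⟨L, hL, hBL⟩ := Groth.Agent.Sga7.H138.OpenStab.exists_finite_of_fg B hB
  refine ⟨L, hL, fun F hF => ?_⟩
  have hBF : B ≤ F.toSubalgebra := hBL.trans hF
  have e2 : Spec.map (CommRingCat.ofHom (Subalgebra.inclusion hBF).toRingHom) ≫
      Spec.map (CommRingCat.ofHom (algebraMap K B)) =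
        Spec.map (CommRingCat.ofHom (algebraMap K F)) := (Spec.map_comp _ _).symm
  have e1 : Spec.map (CommRingCat.ofHom (algebraMap F Ω)) ≫
      Spec.map (CommRingCat.ofHom (algebraMap K F)) =
        Spec.map (CommRingCat.ofHom (algebraMap K Ω)) := (Spec.map_comp _ _).symm
  have e3 : Spec.map (CommRingCat.ofHom (algebraMap F Ω)) ≫
      Spec.map (CommRingCat.ofHom (Subalgebra.inclusion hBF).toRingHom) =
        Spec.map (CommRingCat.ofHom (algebraMap B Ω)) := (Spec.map_comp _ _).symm
  refine ⟨PM M f (Spec.map (CommRingCat.ofHom (Subalgebra.inclusion hBF).toRingHom)) _ _ e2 q y, ?_⟩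
  exact (Hc_eq_HC _ M q _).trans ((PM_comp M f _ _ _ _ _ e2 e1 _ e3 q y).trans hy)

/-- (F0) Every class on `C_Ω` comes from a finite Galois level. -/
theorem exists_class_galois [IsSepClosure K Ω] [QuasiCompact f] [QuasiSeparated f]
    (M : Type) [AddCommGroup M] (q : ℕ) (c : EtCoh.H (SGA7.bcField Ω f) (EtCoh.const _ M) q) :
    ∃ F : IntermediateField K Ω, FiniteDimensional K F ∧ IsGalois K F ∧
      ∃ c' : EtCoh.H (SGA7.bcField F f) (EtCoh.const _ M) q,
        Hc (pullback.map f (Spec.map (CommRingCat.ofHom (algebraMap K Ω))) f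
          (Spec.map (CommRingCat.ofHom (algebraMap K F))) (𝟙 C)
          (Spec.map (CommRingCat.ofHom (algebraMap F Ω))) (𝟙 _) (by simp)
          (by rw [← Spec.map_comp]; rfl)) M q c' = c := by
  have : IsGalois K Ω := IsSepClosure.isGalois
  obtain ⟨L, hL, h⟩ := exists_class_ge K Ω f M q c
  refine ⟨IntermediateField.normalClosure K L Ω, inferInstance, ?_, h _ ?_⟩
  · have : Algebra.IsSeparable K (IntermediateField.normalClosure K L Ω) := inferInstance
    have : Normal K (IntermediateField.normalClosure K L Ω) := inferInstance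
    exact { }
  · exact IntermediateField.le_normalClosure L

end Groth.Agent.Sga7.H280.ClassGal
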